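/-
Facts about `G₂(2)` in its adjoint representation used for the element orders in even characteristic.
-/
import Cfsg.Agent.H23.G2Torus.Embed
import Cfsg.Agent.H46.Elements

set_option autoImplicit false
set_option maxRecDepth 10000

open Matrix Cfsg.Lie Cfsg.Agent.H46 Cfsg.Agent.H23.G2Torus

namespace Cfsg.Agent.H62.G2Orders

/-- The position of a coordinate. -/
def pos : chevG2.Idx → ℕ
  | .inl i => i.val
  | .inr r => 2 + r.val

/-- A matrix over two elements given by the bit patterns of its rows. -/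
def bitMat (L : List ℕ) : Matrix chevG2.Idx chevG2.Idx (ZMod 2) :=
  Matrix.of fun i j => if (L.getD (pos i) 0).testBit (pos j) then 1 else 0

/-- The matrix of a root element with parameter one. -/
abbrev xTwo (r : ℕ) : Matrix chevG2.Idx chevG2.Idx (ZMod 2) := chevG2.x (ZMod 2) r 1

def m8 : Matrix chevG2.Idx chevG2.Idx (ZMod 2) :=
  bitMat [10913, 34, 10918, 348, 1079, 2208, 68, 4224, 340, 640, 1059, 2176, 4096, 10880]

def m8b : Matrix chevG2.Idx chevG2.Idx (ZMod 2) :=
  bitMat [4609, 2178, 4644, 11997, 2193, 4256, 10978, 128, 12161, 4608, 9728, 6144, 4096, 12288]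

def m8c : Matrix chevG2.Idx chevG2.Idx (ZMod 2) :=
  bitMat [4097, 4098, 132, 4107, 528, 32, 2112, 128, 8448, 512, 1024, 2048, 4096, 8192]

def m12 : Matrix chevG2.Idx chevG2.Idx (ZMod 2) :=
  bitMat [9289, 2051, 15435, 8448, 10304, 6673, 9216, 4772, 256, 4128, 8256, 2065, 4644, 9288]

def m12b : Matrix chevG2.Idx chevG2.Idx (ZMod 2) :=
  bitMat [9537, 9307, 14199, 9544, 2137, 1564, 1032, 14074, 256, 2101, 72, 1048, 9310, 264]

def m12c : Matrix chevG2.Idx chevG2.Idx (ZMod 2) :=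
  bitMat [1345, 1282, 348, 8, 280, 1387, 320, 11258, 256, 8770, 1280, 10496, 7424, 8192]

def m12d : Matrix chevG2.Idx chevG2.Idx (ZMod 2) :=
  bitMat [8457, 10563, 4107, 8448, 2112, 4635, 9472, 4239, 256, 6251, 8512, 11609, 15221, 9288]

def m12f : Matrix chevG2.Idx chevG2.Idx (ZMod 2) :=
  bitMat [1, 258, 12, 8, 16, 96, 64, 385, 256, 1536, 1024, 2048, 12288, 8192]

/-- The involution exchanging the short root `9` with its negative. -/
def nTwo : Matrix chevG2.Idx chevG2.Idx (ZMod 2) :=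
  bitMat [1, 3, 4096, 8192, 2048, 512, 1024, 128, 256, 32, 64, 16, 4, 8]

theorem m8_def : xTwo 0 * xTwo 8 = m8 := by decide +kernel

theorem m12_def : xTwo 0 * xTwo 2 * xTwo 9 = m12 := by decide +kernel

theorem m8_facts : m8 * m8 = m8b ∧ m8b * m8b = m8c ∧ m8c * m8c = 1 ∧ m8c ≠ 1 := by
  refine ⟨?_, ?_, ?_, ?_⟩ <;> decide +kernel

theorem m12_facts : m12 * m12 = m12b ∧ m12b * m12 = m12c ∧ m12b * m12b = m12d ∧ m12c * m12c = m12f ∧
    m12f * m12f = 1 ∧ m12d ≠ 1 ∧ m12f ≠ 1 := by
  refine ⟨?_, ?_, ?_, ?_, ?_, ?_, ?_⟩ <;> decide +kernel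

theorem nTwo_def : xTwo 2 * xTwo 9 * xTwo 2 = nTwo := by decide +kernel

theorem nTwo_sq : nTwo * nTwo = 1 := by decide +kernel

/-- The permutation of the three coordinates. -/
def swap01 : Fin 3 → Fin 3 := ![1, 0, 2]

/-- The involution carries the coefficients of long root elements as the contragredient twist does. -/
theorem nTwo_coef : ∀ i j : Fin 3, i ≠ j →
    nTwo * (coef1 (longRoot i j)).map (Int.castRingHom (ZMod 2)) * nTwo =
      (coef1 (longRoot (swap01 j) (swap01 i))).map (Int.castRingHom (ZMod 2)) ∧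
    nTwo * (coef2 (longRoot i j)).map (Int.castRingHom (ZMod 2)) * nTwo =
      (coef2 (longRoot (swap01 j) (swap01 i))).map (Int.castRingHom (ZMod 2)) := by
  decide +kernel

/-- The commutator terms that vanish. -/
theorem comm_nine : chevG2.commTerms 6 9 = [] ∧ chevG2.commTerms 5 9 = [] ∧ 9 ≠ chevG2.neg 6 ∧ 9 ≠ chevG2.neg 5 := by
  decide +kernel

theorem xTwo_nine_ne : xTwo 9 ≠ 1 := by decide +kernel

end Cfsg.Agent.H62.G2Orders
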